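import Cfsg.Agent.BlockB.Section
import Cfsg.Agent.BlockB.Gen
import Cfsg.Agent.BlockB.Rank
import Cfsg.Agent.Char.Classes

/-!
# The projective lattice of a 2-block with elementary abelian defect group is even
-/

namespace CF.Evn

open Cfsg CF.BlockB ComplexConjugate

theorem sum_fixed {ι R : Type*} [CommRing R] [CharP R 2] [DecidableEq ι] (s : Finset ι) (τ : ι → ι)
    (hτ : ∀ a, τ (τ a) = a) (hs : ∀ a ∈ s, τ a ∈ s) (f : ι → R) (hf : ∀ a ∈ s, f (τ a) = f a) :
    ∑ a ∈ s, f a = ∑ a ∈ s with τ a = a, f a := by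
  rw [← Finset.sum_filter_add_sum_filter_not s (fun a => τ a = a), add_eq_left]
  refine Finset.sum_involution (fun a _ => τ a) (fun a ha => ?_) (fun a ha _ => ?_)
    (fun a ha => ?_) fun a _ => hτ a
  · rw [hf a (Finset.mem_filter.1 ha).1, CharTwo.add_self_eq_zero]
  · exact (Finset.mem_filter.1 ha).2
  · obtain ⟨h1, h2⟩ := Finset.mem_filter.1 ha
    exact Finset.mem_filter.2 ⟨hs a h1, fun h => h2 (h.symm.trans (hτ a))⟩

variable {M : Ideal AlgInt} {G : Type*} [Group G]

open Classical in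
variable (G) in
/-- The indicator function of the solutions of `s * s = 1`. -/
noncomputable def J : G → ℂ := fun g => if g * g = 1 then 1 else 0

variable (G) in
/-- The number of factorizations into two solutions of `s * s = 1`. -/
noncomputable def F [Fintype G] : G → ℂ := fun g => ∑ s, J G s * J G (s⁻¹ * g)

theorem J_classFun : IsClassFunction G (J G) := fun g h => by
  have : h * g * h⁻¹ * (h * g * h⁻¹) = 1 ↔ g * g = 1 := by
    rw [show h * g * h⁻¹ * (h * g * h⁻¹) = h * (g * g) * h⁻¹ by group, conj_eq_one_iff]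
  unfold J
  by_cases h1 : g * g = 1
  · rw [if_pos h1, if_pos (this.2 h1)]
  · rw [if_neg h1, if_neg fun h2 => h1 (this.1 h2)]

variable [Fintype G]

theorem inner_F {χ : G → ℂ} (hχ : IsIrrCharacter G χ) :
    classInner (F G) χ = Nat.card G * classInner (J G) χ ^ 2 / χ 1 := by
  have h0 := Char.card_ne_zero_complex (G := G)
  have h1 : ∑ g, F G g * conj (χ g) = ∑ t, J G t * ∑ s, J G s * conj (χ (s * t)) := by
    simp only [F, Finset.sum_mul, Finset.mul_sum]
    rw [Finset.sum_comm, Finset.sum_comm (f := fun t s => J G t * (J G s * conj (χ (s * t))))]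
    refine Finset.sum_congr rfl fun s _ => ?_
    rw [← Equiv.sum_comp (Equiv.mulLeft s)]
    refine Finset.sum_congr rfl fun t _ => ?_
    simp only [Equiv.coe_mulLeft, inv_mul_cancel_left]
    ring
  have h2 := Char.sum_classFun_mul_irr J_classFun (Char.irr_conj hχ)
  simp only [h2, Char.irr_conj_one hχ, mul_left_comm (J G _), ← Finset.mul_sum] at h1
  rw [Char.inner_def, h1, ← Char.card_mul_inner]
  field_simp

open Classical in
theorem F_eq (g : G) : F G g =
    ((((Finset.univ.filter fun s : G => s * g * s⁻¹ = g⁻¹).filter fun s => s⁻¹ = s).card : ℕ) : ℂ) := by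
  rw [Finset.filter_filter, Finset.card_filter, F]
  push_cast
  refine Finset.sum_congr rfl fun s _ => ?_
  by_cases h : s * s = 1
  · have h1 : s⁻¹ = s := inv_eq_of_mul_eq_one_right h
    have h2 : s * g * (s * g) = 1 ↔ s * g * s = g⁻¹ := by
      rw [← mul_assoc, mul_eq_one_iff_eq_inv]
    simp only [J, h, h1, h2, if_true, one_mul, and_true]
  · have h1 : ¬ s⁻¹ = s := fun h1 => h (by nth_rewrite 1 [← h1]; exact inv_mul_cancel s)
    simp [J, h, h1]

theorem F_classFun : IsClassFunction G (F G) := fun g h => by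
  rw [F, F, ← Equiv.sum_comp (MulAut.conj h).toEquiv]
  refine Finset.sum_congr rfl fun s _ => ?_
  rw [← J_classFun s h, ← J_classFun (s⁻¹ * g) h]
  congr 2
  simp only [MulEquiv.toEquiv_eq_coe, EquivLike.coe_coe, MulAut.conj_apply]
  group

theorem exists_J (hM : IsPModular 2 M) {B : Set (IrrCharacter G)} {D : Subgroup G}
    (hB : IsPBlock M B) (hD : IsDefectGroup 2 M B D) (hsq : ∀ x ∈ D, x * x = 1)
    {χ : IrrCharacter G} (hχ : χ ∈ B) :
    ∃ (m : ℤ) (N : ℕ), ¬ 2 ∣ N ∧ (N : ℂ) * classInner (J G) χ = m := by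
  classical
  set S := (Nat.card G).primeFactors.erase 2 with hS
  have hS' : ∀ q ∈ S, q.Prime ∧ q ≠ 2 := fun q hq =>
    ⟨Nat.prime_of_mem_primeFactors (Finset.mem_of_mem_erase hq), Finset.ne_of_mem_erase hq⟩
  have hT : IsGeneralizedCharacter G (∏ q ∈ S, tilde q fun _ : G => 1) :=
    Char.mem_genSubring.1 (Subring.prod_mem _ fun q hq => gen_tilde_one (hS' q hq).1)
  obtain ⟨m, hm⟩ := Char.inner_gen_eq_int hT (Char.gen_of_irr χ.2)
  refine ⟨m, ∏ q ∈ S, q ^ (Nat.card G).factorization q, fun h => ?_, ?_⟩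
  · obtain ⟨q, hq, h1⟩ := (Nat.prime_two.prime.dvd_finsetProd_iff _).1 h
    exact (hS' q hq).2 ((Nat.prime_dvd_prime_iff_eq Nat.prime_two (hS' q hq).1).1
      (Nat.prime_two.dvd_of_dvd_pow h1)).symm
  rw [← hm, Char.inner_def, Char.inner_def, mul_left_comm, Finset.mul_sum]
  refine congrArg _ (Finset.sum_congr rfl fun g _ => ?_)
  rw [Finset.prod_apply]
  by_cases h : ∃ q ∈ S, q ∣ orderOf g
  · obtain ⟨q, hq, h1⟩ := h
    have h2 : ¬ g * g = 1 := fun h2 => (hS' q hq).2 ((Nat.prime_dvd_prime_iff_eq (hS' q hq).1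
      Nat.prime_two).1 (h1.trans (orderOf_dvd_of_pow_eq_one (by rw [sq, h2]))))
    rw [Finset.prod_eq_zero (f := fun q => tilde q (fun _ : G => 1) g) hq (by simp [tilde_eq, h1])]
    simp [J, h2]
  push Not at h
  rw [Finset.prod_congr rfl (g := fun q => ((q ^ (Nat.card G).factorization q : ℕ) : ℂ))
    fun q hq => by simp [tilde_eq, h q hq]]
  by_cases h2 : g * g = 1
  · simp [J, h2]
  have h3 : (χ : G → ℂ) g = 0 := by
    by_contra h3
    obtain ⟨c, hc⟩ := exists_conj_mem_of_ne_zero hM hB hD hχ h3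
    rw [pPart_of_pElement hM.1 ⟨_, Nat.eq_prime_pow_of_unique_prime_dvd (orderOf_pos g).ne'
      fun {q} hq h4 => ?_⟩] at hc
    · have h5 := hsq _ hc
      rw [show c * g * c⁻¹ * (c * g * c⁻¹) = c * (g * g) * c⁻¹ by group, conj_eq_one_iff] at h5
      exact h2 h5
    · by_contra h5
      exact h q (Finset.mem_erase.2 ⟨h5, Nat.mem_primeFactors.2
        ⟨hq, h4.trans (orderOf_dvd_natCard g), Nat.card_pos.ne'⟩⟩) h4
  simp [h3]

theorem v_inner_F (hM : IsPModular 2 M) {B : Set (IrrCharacter G)} {D : Subgroup G}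
    (hB : IsPBlock M B) (hD : IsDefectGroup 2 M B D) (hD1 : D ≠ ⊥) (hsq : ∀ x ∈ D, x * x = 1)
    {χ : IrrCharacter G} (hχ : χ ∈ B) : v M (classInner (χ : G → ℂ) (F G)) < 1 := by
  obtain ⟨m, N, hN, h⟩ := exists_J hM hB hD hsq hχ
  have hN0 : (N : ℂ) ≠ 0 := by
    rintro h0
    rw [Nat.cast_eq_zero] at h0
    exact hN (h0 ▸ dvd_zero 2)
  have h1 : classInner (J G) χ = m / N := by rw [← h, mul_div_cancel_left₀ _ hN0]
  rw [← Char.inner_conj_symm, inner_F χ.2, h1]
  simp only [map_div₀, map_mul, map_pow, map_natCast, map_intCast, Char.irr_conj_one χ.2]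
  rw [(v_natCast_eq_one_iff hM N).2 hN, div_one, mul_comm, mul_div_assoc]
  refine lt_of_le_of_lt (mul_le_of_le_one_left' (pow_le_one' (v_intCast_le_one M m) 2)) ?_
  rw [div_lt_one₀ (v_pos (Char.irr_one_ne_zero χ.2)), v_card hM, v_irr_one hM, vp_pow_lt_iff hM]
  refine lt_of_le_of_ne (factorization_charDegree_le χ) fun h2 => hD1 ?_
  rw [← Subgroup.card_eq_one, card_defectGroup hM hB hD, defect_eq_zero_of_mem hM hB hχ h2, pow_zero]

theorem even_norm {B : Set (IrrCharacter G)} {D : Subgroup G} (hM : IsPModular 2 M)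
    (hB : IsPBlock M B) (hD : IsDefectGroup 2 M B D) (hD1 : D ≠ ⊥) (hsq : ∀ x ∈ D, x * x = 1)
    {Φ : G → ℂ} (hg : IsGeneralizedCharacter G Φ) (hpv : PV 2 Φ) (hs : InSpan B Φ) {n : ℤ}
    (hn : classInner Φ Φ = n) : Even n := by
  classical
  have := charP_k hM
  have := Fintype.ofFinite (ConjClasses G)
  have hcf := Char.gen_isClassFunction hg
  have hint : ∀ ξ : IrrCharacter G, v M (classInner Φ ξ) ≤ 1 := fun ξ => by
    obtain ⟨m, hm⟩ := Char.inner_gen_eq_int hg (Char.gen_of_irr ξ.2)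
    rw [hm]
    exact v_intCast_le_one M m
  have hS : v M (classInner Φ (F G)) < 1 := by
    rw [hs.inner_eq_sum]
    exact v_sum_lt_one fun χ hχ => v_mul_lt_one_right (hint χ)
      (v_inner_F hM hB hD hD1 hsq (Finset.mem_filter.1 hχ).2)
  choose r hr using ConjClasses.mk_surjective (α := G)
  have hr' : ∀ g, IsConj (r (ConjClasses.mk g)) g := fun g =>
    ConjClasses.mk_eq_mk_iff_isConj.1 (hr _)
  set z : G → ℕ := fun g => Nat.card (Subgroup.centralizer ({g} : Set G)) with hz
  have hz0 : ∀ g, (z g : ℂ) ≠ 0 := fun g => Nat.cast_ne_zero.2 Nat.card_pos.ne'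
  have hzc : ∀ {a b : G}, IsConj a b → z a = z b := Char.card_centralizer_eq_of_isConj
  have hzi : ∀ g, z g⁻¹ = z g := fun g => by
    refine congrArg (fun H : Subgroup G => Nat.card H) (Subgroup.ext fun x => ?_)
    simp only [Subgroup.mem_centralizer_singleton_iff]
    exact Commute.inv_right_iff
  set c : G → ℂ := fun g => Φ g / z g with hc
  have hc1 : ∀ g, v M (c g) ≤ 1 := v_div_card_centralizer_le hM hcf hpv hint
  have hcc : ∀ {a b : G}, IsConj a b → c a = c b := fun h => by
    simp only [hc, hzc h, Char.classFun_of_isConj hcf h]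
  have key : ∀ f : G → ℂ, IsClassFunction G f →
      classInner Φ f = ∑ C, c (r C) * conj (f (r C)) := fun f hf => by
    have h1 := Char.sum_card_centralizer_smul fun C => c (r C) * conj (f (r C))
    rw [nsmul_eq_mul] at h1
    refine mul_left_cancel₀ (Char.card_ne_zero_complex (G := G)) ?_
    rw [← h1, Char.card_mul_inner]
    refine Finset.sum_congr rfl fun g _ => ?_
    rw [hcc (hr' g), Char.classFun_of_isConj hf (hr' g), nsmul_eq_mul, ← mul_assoc,
      mul_div_cancel₀ _ (hz0 g)]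
  set a : G → k M := fun g => resC M (c g) with ha
  have hac : ∀ {x y : G}, IsConj x y → a x = a y := fun h => by simp only [ha, hcc h]
  set f : G → ℕ := fun g => ((Finset.univ.filter fun s : G => s * g * s⁻¹ = g⁻¹).filter
    fun s => s⁻¹ = s).card with hf
  have hf2 : ∀ g, (f g : k M) = if IsConj g g⁻¹ then z g else 0 := fun g => by
    have h1 := sum_fixed (R := k M) (Finset.univ.filter fun s : G => s * g * s⁻¹ = g⁻¹)
      (fun s => s⁻¹) inv_inv (fun s hs => ?_) (fun _ => 1) fun _ _ => rfl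
    · simp only [Finset.sum_const, nsmul_eq_mul, mul_one] at h1
      rw [hf, ← h1]
      split_ifs with h
      · simp only [hz]
        rw [← Char.card_conjugators h, Nat.card_eq_fintype_card, Fintype.card_subtype]
      · rw [Finset.filter_false_of_mem fun s _ hs => h (isConj_iff.2 ⟨s, hs⟩)]
        simp
    · simp only [Finset.mem_filter, Finset.mem_univ, true_and, inv_inv] at hs ⊢
      have h2 := congrArg (fun x => s⁻¹ * x⁻¹ * s) hs
      simp only [mul_inv_rev, inv_inv] at h2
      rw [← h2]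
      group
  have h1 : resC M (classInner Φ (F G)) = ∑ C, a (r C) * f (r C) := by
    rw [key _ F_classFun, resC_sum fun C _ => v_mul_le_one (hc1 _) (by
      rw [F_eq, map_natCast]; exact v_natCast_le_one M _)]
    refine Finset.sum_congr rfl fun C _ => ?_
    rw [F_eq, map_natCast, resC_mul (hc1 _) (v_natCast_le_one M _), resC_natCast]
  have h2 : (n : k M) = ∑ C, a (r C) * (z (r C) * a (r C)⁻¹) := by
    have h3 : ∀ g, conj (Φ g) = z g * c g⁻¹ := fun g => by
      rw [← Char.gen_inv hg, ← hzi g, hc, mul_div_cancel₀ _ (hz0 _)]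
    rw [← resC_intCast, ← hn, key _ hcf, resC_sum fun C _ => v_mul_le_one (hc1 _) (by
      rw [h3]; exact v_mul_le_one (v_natCast_le_one M _) (hc1 _))]
    refine Finset.sum_congr rfl fun C _ => ?_
    rw [h3, resC_mul (hc1 _) (v_mul_le_one (v_natCast_le_one M _) (hc1 _)),
      resC_mul (v_natCast_le_one M _) (hc1 _), resC_natCast]
  have hinv : ∀ {x y : G}, IsConj x y → IsConj x⁻¹ y⁻¹ := fun h => by
    obtain ⟨t, rfl⟩ := isConj_iff.1 h
    exact isConj_iff.2 ⟨t, by group⟩
  rw [sum_fixed Finset.univ (fun C => ConjClasses.mk (r C)⁻¹) (fun C => ?_)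
    (fun _ _ => Finset.mem_univ _) _ fun C _ => ?_] at h2
  · rw [(resC_eq_zero_iff hS.le).2 hS] at h1
    have h3 := congrArg (· ^ 2) h1
    simp only [CharTwo.sum_sq, zero_pow two_ne_zero] at h3
    have h4 : (n : k M) = 0 := by
      rw [h2, h3, Finset.sum_filter]
      refine Finset.sum_congr rfl fun C _ => ?_
      have h5 : ConjClasses.mk (r C)⁻¹ = C ↔ IsConj (r C) (r C)⁻¹ := by
        rw [← ConjClasses.mk_eq_mk_iff_isConj, hr, eq_comm]
      have h6 : (z (r C) : k M) ^ 2 = z (r C) := by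
        rcases Nat.even_or_odd (z (r C)) with h | h
        · rw [(CharP.cast_eq_zero_iff (k M) 2 _).2 h.two_dvd]; simp
        · obtain ⟨j, hj⟩ := h
          rw [hj]
          push_cast
          rw [CharTwo.two_eq_zero]; simp
      rw [hf2, mul_pow]
      simp only [h5]
      split_ifs with h
      · rw [← hac h, h6]; ring
      · simp
    exact even_iff_two_dvd.2 (by exact_mod_cast (CharP.intCast_eq_zero_iff (k M) 2 n).1 h4)
  · have := hinv (hr' (r C)⁻¹)
    rw [inv_inv] at this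
    rw [ConjClasses.mk_eq_mk_iff_isConj.2 this, hr]
  · have h3 := hr' (r C)⁻¹
    have h4 := hinv h3
    rw [inv_inv] at h4
    rw [hac h3, hac h4, hzc h3, hzi]
    ring

theorem even_sum {B : Set (IrrCharacter G)} {D : Subgroup G} (hM : IsPModular 2 M)
    (hB : IsPBlock M B) (hD : IsDefectGroup 2 M B D) (hD1 : D ≠ ⊥) (hsq : ∀ x ∈ D, x * x = 1)
    [DecidablePred (· ∈ B)] (a : IrrCharacter G → ℤ)
    (hpv : PV 2 (∑ χ ∈ Finset.univ.filter (· ∈ B), (a χ : ℂ) • (χ : G → ℂ))) :
    Even (∑ χ ∈ Finset.univ.filter (· ∈ B), a χ ^ 2) := by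
  classical
  refine even_norm hM hB hD hD1 hsq (Char.gen_sum _ fun χ _ =>
    Char.gen_intCast_smul (Char.gen_of_irr χ.2) _) hpv
    (inSpan_sum _ fun χ hχ => (inSpan_irr (Finset.mem_filter.1 hχ).2).smul _) ?_
  push_cast
  rw [Char.inner_sum_left]
  refine Finset.sum_congr rfl fun χ hχ => ?_
  rw [Char.inner_smul_left, Char.inner_sum_right, Finset.sum_eq_single_of_mem χ hχ fun ψ _ h => by
    rw [Char.inner_smul_right, Char.inner_irr', if_neg (Ne.symm h), mul_zero],
    Char.inner_smul_right, Char.inner_irr', if_pos rfl, map_intCast]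
  ring

end CF.Evn
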